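import Cfsg.Agent.H822.Cls.Props

/-!
# S4148, T12: the Hall complement for the primes with `N(P) = C(P)`
-/

set_option autoImplicit false

namespace Cfsg.Agent.H96.Cls.ExSplit

open scoped Pointwise commutatorElement
open Cfsg.Agent.H822.Cls

universe u

theorem exists_split : ExistsSplit.{u} := by
  classical
  intro G _ _
  let A : Finset ℕ := (Nat.card G).primeFactors.filter fun p => ∀ P : Sylow p G,
    Subgroup.normalizer ((P : Subgroup G) : Set G) ≤ Subgroup.centralizer ((P : Subgroup G) : Set G)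
  have hA : ∀ p, p ∈ A ↔ p.Prime ∧ p ∣ Nat.card G ∧ ∀ P : Sylow p G,
      Subgroup.normalizer ((P : Subgroup G) : Set G) ≤ Subgroup.centralizer ((P : Subgroup G) : Set G) := by
    intro p
    simp only [A, Finset.mem_filter, Nat.mem_primeFactors]
    constructor
    · rintro ⟨⟨h1, h2, -⟩, h3⟩
      exact ⟨h1, h2, h3⟩
    · rintro ⟨h1, h2, h3⟩
      exact ⟨⟨h1, h2, Nat.card_pos.ne'⟩, h3⟩
  -- the normal complements
  have hex : ∀ p : A, ∃ (P : Sylow p.1 G) (φ : G →* P), (∀ a b : (P : Subgroup G), a * b = b * a) ∧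
      ¬ p.1 ∣ Nat.card φ.ker := by
    intro p
    obtain ⟨h1, h2, h3⟩ := (hA p.1).1 p.2
    have : Fact p.1.Prime := ⟨h1⟩
    obtain ⟨P⟩ : Nonempty (Sylow p.1 G) := inferInstance
    refine ⟨P, MonoidHom.transferSylow P (h3 P), fun a b => ?_, ?_⟩
    · have h4 := h3 P (Subgroup.le_normalizer a.2)
      rw [Subgroup.mem_centralizer_iff] at h4
      exact Subtype.ext (h4 b.1 b.2).symm
    · exact MonoidHom.not_dvd_card_ker_transferSylow P (h3 P)
  choose P φ hcomm hker using hex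
  let Φ : G →* (∀ p : A, (P p : Subgroup G)) := MonoidHom.pi φ
  have hΦ : ∀ g p, Φ g p = φ p g := fun _ _ => rfl
  have hK1 : ∀ p ∈ A, ¬ p ∣ Nat.card Φ.ker := by
    intro p hp h
    apply hker ⟨p, hp⟩
    refine h.trans (Subgroup.card_dvd_of_le fun g hg => ?_)
    rw [MonoidHom.mem_ker] at hg ⊢
    rw [← hΦ, hg]
    rfl
  have hidx : ∀ q : ℕ, q.Prime → q ∣ Φ.ker.index → q ∈ A := by
    intro q hq h
    rw [Subgroup.index_ker] at h
    have h1 : q ∣ Nat.card (∀ p : A, (P p : Subgroup G)) :=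
      h.trans (Subgroup.card_subgroup_dvd_card _)
    rw [Nat.card_pi] at h1
    obtain ⟨p, -, hp⟩ := (hq.prime.dvd_finsetProd_iff _).1 h1
    have : Fact p.1.Prime := ⟨((hA p.1).1 p.2).1⟩
    obtain ⟨a, ha⟩ := (IsPGroup.iff_card.1 (P p).isPGroup')
    rw [ha] at hp
    have h2 := (Nat.prime_dvd_prime_iff_eq hq ((hA p.1).1 p.2).1).1 (hq.dvd_of_dvd_pow hp)
    rw [h2]
    exact p.2
  have hcop : (Nat.card Φ.ker).Coprime Φ.ker.index := by
    rw [Nat.coprime_iff_gcd_eq_one]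
    by_contra hne
    obtain ⟨r, hr, hrd⟩ := Nat.exists_prime_and_dvd hne
    exact hK1 r (hidx r hr (hrd.trans (Nat.gcd_dvd_right _ _))) (hrd.trans (Nat.gcd_dvd_left _ _))
  obtain ⟨H, hH⟩ := Subgroup.exists_right_complement'_of_coprime hcop
  have hHc : Nat.card H = Φ.ker.index := hH.symm.index_eq_card.symm
  refine ⟨Φ.ker, H, ⟨inferInstance, ?_, ?_, hH.sup_eq_top⟩, ?_⟩
  · intro a ha b hb
    have h1 : a * b * (b * a)⁻¹ ∈ Φ.ker := by
      rw [MonoidHom.mem_ker, map_mul, map_inv, mul_inv_eq_one, map_mul, map_mul]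
      funext p
      exact hcomm p _ _
    have h2 : a * b * (b * a)⁻¹ ∈ H := H.mul_mem (H.mul_mem ha hb) (H.inv_mem (H.mul_mem hb ha))
    have h3 : a * b * (b * a)⁻¹ ∈ Φ.ker ⊓ H := ⟨h1, h2⟩
    rw [hH.disjoint.eq_bot, Subgroup.mem_bot, mul_inv_eq_one] at h3
    exact h3
  · rw [hHc]
    exact hcop
  · intro p hp hpG
    constructor
    · intro h
      rw [hHc] at h
      exact ((hA p).1 (hidx p hp h)).2.2
    · intro h
      have h1 : p ∈ A := (hA p).2 ⟨hp, hpG, h⟩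
      rw [← hH.card_mul_card] at hpG
      exact (hp.dvd_mul.1 hpG).resolve_left (hK1 p h1)

end Cfsg.Agent.H96.Cls.ExSplit
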