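import Cfsg.Agent.H822.Cls.Props
import Cfsg.Agent.H717.Rep
import Cfsg.Agent.H599.Ito
import Cfsg.Agent.Characters.Core
import Cfsg.Agent.Characters.Values
import Cfsg.Agent.S0161
import Cfsg.Agent.S0205

/-!
# S4148, T3: nonnormal Sylow subgroups of linear groups in coprime characteristic
-/

set_option autoImplicit false
set_option linter.style.haveILetI false

namespace Cfsg.Agent.H96.Cls.LemD

open scoped Pointwise commutatorElement
open Cfsg.Agent.H822.Cls Module

universe u

theorem lemD {q p : ℕ} (hq : q.Prime) (hp : p.Prime) {D : Type u} [Group D] [Finite D] [Group.IsSolvable D]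
    (hqD : ¬ q ∣ Nat.card D) {X : Type u} [AddCommGroup X] [Finite X] (hX : ∀ x : X, q • x = 0)
    [DistribMulAction D X] (hfaith : ∀ g : D, (∀ x : X, g • x = x) → g = 1) (P : Sylow p D)
    (hP : ¬ (P : Subgroup D).Normal) {n : ℕ} (hn : Nat.card X = q ^ n) :
    p ≤ n ∨ (n + 1 = p ∧ ∃ k : ℕ, n = 2 ^ k) := by
  haveI : Fact q.Prime := ⟨hq⟩
  haveI : Fact p.Prime := ⟨hp⟩
  haveI : FaithfulSMul D X := ⟨fun {a b} hab => by
    have h := hfaith (a⁻¹ * b) (fun x => by rw [mul_smul, ← hab x, inv_smul_smul])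
    rw [inv_mul_eq_one] at h
    exact h⟩
  obtain ⟨ρ, hρ⟩ := Cfsg.Agent.H717.Rep.exists_rep (D := D) (E := X) (p := q) hX hqD hn
  rcases Nat.lt_or_ge n p with h | h
  · obtain ⟨h1, h2, -⟩ := Cfsg.Agent.H599.Ito.main ρ hρ
      (Cfsg.Agent.Lib.PSolvable.IsPSolvable_of_solvable (G := D) p) h P hP
    exact Or.inr ⟨h1, h2⟩
  · exact Or.inl h

/-- The real lift of an orthogonal/symplectic representation of odd degree group in characteristic two. -/
theorem exists_real_rep {D : Type u} [Group D] [Finite D] (hD : Odd (Nat.card D)) {X : Type u}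
    [AddCommGroup X] [Finite X] (hX : ∀ x : X, 2 • x = 0) [DistribMulAction D X]
    (hfaith : ∀ g : D, (∀ x : X, g • x = x) → g = 1) (β : X → X → ZMod 2)
    (hβ : ∀ x y z, β (x + y) z = β x z + β y z) (hβ' : ∀ x y z, β x (y + z) = β x y + β x z)
    (hnd : ∀ x, (∀ y, β x y = 0) → x = 0) (hinv : ∀ (g : D) (x y : X), β (g • x) (g • y) = β x y)
    {n : ℕ} (hn : Nat.card X = 2 ^ n) :
    ∃ ρ : Representation ℂ D (Fin n → ℂ), Function.Injective ρ ∧ ∀ g : D, ρ.character g⁻¹ = ρ.character g := by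
  classical
  haveI : Fact (Nat.Prime 2) := ⟨Nat.prime_two⟩
  haveI := Fintype.ofFinite D
  letI : Module (ZMod 2) X := AddCommGroup.zmodModule (n := 2) hX
  let θ : D →* Module.End (ZMod 2) X :=
    { toFun := fun g => AddMonoidHom.toZModLinearMap 2 (DistribMulAction.toAddMonoidEnd D X g)
      map_one' := by
        refine LinearMap.ext fun v => ?_
        exact one_smul D v
      map_mul' := fun g g' => by
        refine LinearMap.ext fun v => ?_
        exact mul_smul g g' v }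
  have hθ : ∀ g x, θ g x = g • x := fun _ _ => rfl
  haveI : Module.Finite (ZMod 2) X := Module.Finite.of_finite
  have hnn : Module.finrank (ZMod 2) X = n := by
    have h1 := Module.natCard_eq_pow_finrank (K := ZMod 2) (V := X)
    rw [Nat.card_zmod, hn] at h1
    exact (Nat.pow_right_injective le_rfl h1).symm
  let b : Module.Basis (Fin n) (ZMod 2) X := (Module.finBasis (ZMod 2) X).reindex (finCongr hnn)
  let f : D →* Matrix (Fin n) (Fin n) (ZMod 2) :=
    (LinearMap.toMatrixAlgEquiv b : Module.End (ZMod 2) X ≃ₐ[ZMod 2] _).toAlgHom.toRingHom.toMonoidHom.comp θ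
  have hc : (Nat.card D).Coprime 2 := (Nat.coprime_two_right (n := Nat.card D)).2 hD
  obtain ⟨τ, hτ⟩ := Cfsg.Agent.H348.Lift.exists_lift hc f.toHomUnits
  have hτ' : ∀ g, ((τ g : GL (Fin n) ℤ_[2]) : Matrix (Fin n) (Fin n) ℤ_[2]).map (PadicInt.toZMod (p := 2)) = f g :=
    fun g => congrArg Units.val (hτ g)
  obtain ⟨ι, hι⟩ := Cfsg.Agent.H717.Rep.exists_padic_embedding 2
  -- the form
  have hβs : ∀ (c : ZMod 2) (x y : X), β (c • x) y = c * β x y := by
    intro c x y
    have h0 : β 0 y = 0 := by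
      have := hβ 0 0 y
      rw [add_zero] at this
      exact (left_eq_add.1 this)
    fin_cases c
    · change β ((0 : ZMod 2) • x) y = 0 * β x y
      rw [zero_smul, zero_mul, h0]
    · change β ((1 : ZMod 2) • x) y = 1 * β x y
      rw [one_smul, one_mul]
  have hβs' : ∀ (c : ZMod 2) (x y : X), β x (c • y) = c * β x y := by
    intro c x y
    have h0 : β x 0 = 0 := by
      have := hβ' x 0 0
      rw [add_zero] at this
      exact (left_eq_add.1 this)
    fin_cases c
    · change β x ((0 : ZMod 2) • y) = 0 * β x y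
      rw [zero_smul, zero_mul, h0]
    · change β x ((1 : ZMod 2) • y) = 1 * β x y
      rw [one_smul, one_mul]
  let B : LinearMap.BilinForm (ZMod 2) X := LinearMap.mk₂ (ZMod 2) β hβ (fun c x y => by rw [hβs, smul_eq_mul]) hβ'
    (fun c x y => by rw [hβs', smul_eq_mul])
  have hB : ∀ x y, B x y = β x y := fun _ _ => rfl
  let M : Matrix (Fin n) (Fin n) (ZMod 2) := LinearMap.BilinForm.toMatrix b B
  have hMij : ∀ i j, M i j = B (b i) (b j) := fun i j => LinearMap.BilinForm.toMatrix_apply b B i j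
  have hM : M.det ≠ 0 := by
    intro h0
    obtain ⟨v, hv, hv0⟩ := Matrix.exists_vecMul_eq_zero_iff.2 h0
    apply hv
    have h1 : B (b.equivFun.symm v) = 0 := by
      apply b.ext
      intro j
      have h2 := congrFun hv0 j
      rw [Matrix.vecMul, dotProduct, Pi.zero_apply] at h2
      rw [Module.Basis.equivFun_symm_apply, map_sum, LinearMap.sum_apply, LinearMap.zero_apply]
      rw [← h2]
      refine Finset.sum_congr rfl fun i _ => ?_
      rw [map_smul, LinearMap.smul_apply, smul_eq_mul, hMij]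
    have h3 : b.equivFun.symm v = 0 := hnd _ fun y => by
      rw [← hB, h1, LinearMap.zero_apply]
    rwa [LinearEquiv.map_eq_zero_iff] at h3
  have hMf : ∀ g, (f g).transpose * M * f g = M := by
    intro g
    have h1 : LinearMap.BilinForm.toMatrix b (B.comp (θ g) (θ g)) = (f g).transpose * M * f g :=
      LinearMap.BilinForm.toMatrix_comp b b B (θ g) (θ g)
    rw [← h1]
    congr 1
    ext x y
    exact hinv g x y
  -- lift of the Gram matrix
  have hs : Function.Surjective (PadicInt.toZMod (p := 2)) := ZMod.ringHom_surjective _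
  choose s hs using hs
  let B₀ : Matrix (Fin n) (Fin n) ℤ_[2] := M.map s
  have hB₀ : B₀.map (PadicInt.toZMod (p := 2)) = M := by
    ext i j
    simp [B₀, hs]
  let t : D → Matrix (Fin n) (Fin n) ℤ_[2] := fun g => ((τ g : GL (Fin n) ℤ_[2]) : Matrix (Fin n) (Fin n) ℤ_[2])
  have ht : ∀ g h, t (g * h) = t g * t h := fun g h => by
    simp only [t, map_mul, Units.val_mul]
  let T : Matrix (Fin n) (Fin n) ℤ_[2] := ∑ g : D, (t g).transpose * B₀ * t g
  have hTmap : T.map (PadicInt.toZMod (p := 2)) = M := by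
    have h1 : T.map (PadicInt.toZMod (p := 2)) = ∑ _g : D, M := by
      have h2 : T.map (PadicInt.toZMod (p := 2)) = (PadicInt.toZMod (p := 2)).mapMatrix T := rfl
      rw [h2, map_sum]
      refine Finset.sum_congr rfl fun g _ => ?_
      rw [map_mul, map_mul]
      have h3 : (PadicInt.toZMod (p := 2)).mapMatrix (t g) = f g := hτ' g
      have h4 : (PadicInt.toZMod (p := 2)).mapMatrix (t g).transpose = (f g).transpose := by
        rw [← h3]; rfl
      have h5 : (PadicInt.toZMod (p := 2)).mapMatrix B₀ = M := hB₀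
      rw [h3, h4, h5, hMf]
    rw [h1, Finset.sum_const, Finset.card_univ, ← Nat.card_eq_fintype_card]
    obtain ⟨k, hk⟩ := hD
    have h6 : M + M = 0 := by
      ext i j
      exact CharTwo.add_self_eq_zero (M i j)
    rw [hk, add_smul, one_smul, mul_comm, mul_smul, two_smul, h6, smul_zero, zero_add]
  have hTinv : ∀ h, (t h).transpose * T * t h = T := by
    intro h
    rw [Finset.mul_sum, Finset.sum_mul]
    refine Fintype.sum_equiv (Equiv.mulRight h) _ _ fun g => ?_
    simp only [Equiv.coe_mulRight, ht, Matrix.transpose_mul, Matrix.mul_assoc]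
  have hdet : T.det ≠ 0 := by
    intro h0
    apply hM
    rw [← hTmap]
    have h1 : (T.map (PadicInt.toZMod (p := 2))).det = PadicInt.toZMod (p := 2) T.det :=
      ((PadicInt.toZMod (p := 2)).map_det T).symm
    rw [h1, h0, map_zero]
  -- the complex representation
  have hτi : Function.Injective τ := by
    intro a c hac
    have h1 : f a = f c := by rw [← hτ', ← hτ', hac]
    have h2 : θ a = θ c := (LinearMap.toMatrixAlgEquiv b).injective h1
    have h3 : ∀ x : X, (a⁻¹ * c) • x = x := fun x => by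
      have h4 : a • x = c • x := by rw [← hθ, ← hθ, h2]
      rw [mul_smul, ← h4, inv_smul_smul]
    have h5 := hfaith _ h3
    rwa [inv_mul_eq_one] at h5
  let F : D →* Matrix (Fin n) (Fin n) ℂ :=
    (ι.mapMatrix : Matrix (Fin n) (Fin n) ℤ_[2] →+* Matrix (Fin n) (Fin n) ℂ).toMonoidHom.comp
      ((Units.coeHom _).comp τ)
  have hFt : ∀ g, F g = (t g).map ι := fun _ => rfl
  have hF : Function.Injective F := by
    intro a c hac
    apply hτi
    apply Units.ext
    exact Matrix.map_injective hι hac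
  refine ⟨(Matrix.toLinAlgEquiv' : Matrix (Fin n) (Fin n) ℂ ≃ₐ[ℂ] _).toAlgHom.toRingHom.toMonoidHom.comp F,
    fun a c hac => hF (Matrix.toLinAlgEquiv'.injective hac), fun g => ?_⟩
  have hch : ∀ g, Representation.character ((Matrix.toLinAlgEquiv' : Matrix (Fin n) (Fin n) ℂ ≃ₐ[ℂ] _).toAlgHom.toRingHom.toMonoidHom.comp F) g = (F g).trace := by
    intro g
    exact Matrix.trace_toLin'_eq (F g)
  rw [hch, hch]
  have hTC : (F g).transpose * T.map ι * F g = T.map ι := by
    have h1 := congrArg (ι.mapMatrix) (hTinv g)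
    rw [map_mul, map_mul] at h1
    exact h1
  have hTd : IsUnit (T.map ι) := by
    rw [Matrix.isUnit_iff_isUnit_det, isUnit_iff_ne_zero]
    have h1 : (T.map ι).det = ι T.det := (ι.map_det T).symm
    rw [h1]
    intro h2
    exact hdet (hι (by rw [h2, map_zero]))
  obtain ⟨U, hU⟩ := hTd
  have h1 : F g * F g⁻¹ = 1 := by rw [← map_mul, mul_inv_cancel, map_one]
  have h2 : (F g).transpose * (U : Matrix (Fin n) (Fin n) ℂ) = U * F g⁻¹ := by
    rw [hU]
    calc (F g).transpose * T.map ι = (F g).transpose * T.map ι * (F g * F g⁻¹) := by rw [h1, mul_one]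
      _ = ((F g).transpose * T.map ι * F g) * F g⁻¹ := by simp only [mul_assoc]
      _ = _ := by rw [hTC]
  have h3 : F g⁻¹ = ((U⁻¹ : (Matrix (Fin n) (Fin n) ℂ)ˣ) : Matrix (Fin n) (Fin n) ℂ) * ((F g).transpose * U) := by
    rw [h2, ← mul_assoc, Units.inv_mul, one_mul]
  rw [h3, Matrix.trace_mul_comm, mul_assoc, Units.mul_inv, mul_one, Matrix.trace_transpose]

/-- If the images of `P` under all constituents are normal then `P` is normal. -/
theorem exists_constituent {D : Type u} [Group D] [Finite D] {p : ℕ} [hp : Fact p.Prime] {n : ℕ}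
    (ρ : Representation ℂ D (Fin n → ℂ)) (hρ : Function.Injective ρ)
    [Fintype (Cfsg.IrrCharacter D)] (m : Cfsg.IrrCharacter D → ℕ)
    (hm : ρ.character = ∑ ψ : Cfsg.IrrCharacter D, m ψ • (ψ : D → ℂ))
    (k : Cfsg.IrrCharacter D → ℕ) (σ : ∀ ψ : Cfsg.IrrCharacter D, Representation ℂ D (Fin (k ψ) → ℂ))
    (hσ : ∀ ψ, (σ ψ).character = (ψ : D → ℂ)) (P : Sylow p D) (hP : ¬ (P : Subgroup D).Normal) :
    ∃ ψ, m ψ ≠ 0 ∧ ∃ x ∈ (P : Subgroup D), ∃ g : D, ∀ y ∈ (P : Subgroup D), σ ψ (g * x * g⁻¹) ≠ σ ψ y := by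
  by_contra hcon
  push Not at hcon
  apply hP
  -- the subgroup of elements whose images lie in the images of `P`
  let N : Subgroup D := ⨅ ψ : {ψ : Cfsg.IrrCharacter D // m ψ ≠ 0},
    ((P : Subgroup D).map (σ ψ.1).toHomUnits).comap (σ ψ.1).toHomUnits
  have hN : ∀ x, x ∈ N ↔ ∀ ψ, m ψ ≠ 0 → ∃ y ∈ (P : Subgroup D), σ ψ y = σ ψ x := by
    intro x
    have h1 : ∀ (ψ : Cfsg.IrrCharacter D) (y : D), (σ ψ).toHomUnits y = (σ ψ).toHomUnits x ↔ σ ψ y = σ ψ x :=
      fun ψ y => Units.ext_iff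
    constructor
    · intro h ψ h0
      have h2 := Subgroup.mem_iInf.1 h ⟨ψ, h0⟩
      obtain ⟨y, hy, hyx⟩ := Subgroup.mem_map.1 (Subgroup.mem_comap.1 h2)
      exact ⟨y, hy, (h1 ψ y).1 hyx⟩
    · intro h
      refine Subgroup.mem_iInf.2 fun ψ => Subgroup.mem_comap.2 (Subgroup.mem_map.2 ?_)
      obtain ⟨y, hy, hyx⟩ := h ψ.1 ψ.2
      exact ⟨y, hy, (h1 ψ.1 y).2 hyx⟩
  have hPN : (P : Subgroup D) ≤ N := fun x hx => (hN x).2 fun ψ _ => ⟨x, hx, rfl⟩
  have hNp : IsPGroup p N := by
    obtain ⟨a, ha⟩ := (IsPGroup.iff_card.1 P.isPGroup')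
    intro x
    refine ⟨a, ?_⟩
    refine Subtype.ext ?_
    rw [Subgroup.coe_pow, Subgroup.coe_one]
    apply hρ
    rw [map_one]
    apply (Cfsg.Agent.Characters.Values.character_eq_finrank_iff ρ _).1
    rw [← Representation.char_one ρ, hm]
    simp only [Finset.sum_apply, Pi.smul_apply]
    refine Finset.sum_congr rfl fun ψ _ => ?_
    by_cases h0 : m ψ = 0
    · rw [h0, zero_smul, zero_smul]
    · obtain ⟨y, hy, hyx⟩ := (hN x.1).1 x.2 ψ h0
      congr 1
      rw [← hσ ψ, Representation.character, Representation.character, map_pow, ← hyx, ← map_pow]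
      have h1 : y ^ p ^ a = 1 := by
        rw [← ha]
        have := pow_card_eq_one' (x := (⟨y, hy⟩ : (P : Subgroup D)))
        exact congrArg Subtype.val this
      rw [h1]
  have hPeq : (P : Subgroup D) = N := (P.is_maximal' hNp hPN).symm
  rw [hPeq]
  refine ⟨fun x hx g => (hN _).2 fun ψ h0 => ?_⟩
  obtain ⟨y, hy, hyx⟩ := (hN x).1 hx ψ h0
  obtain ⟨z, hz, hzy⟩ := hcon ψ h0 y hy g
  refine ⟨z, hz, ?_⟩
  rw [← hzy]
  simp only [map_mul]
  rw [hyx]

theorem lemD_two {p : ℕ} (hp : p.Prime) {D : Type u} [Group D] [Finite D] (hD : Odd (Nat.card D)) {X : Type u}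
    [AddCommGroup X] [Finite X] (hX : ∀ x : X, 2 • x = 0) [DistribMulAction D X]
    (hfaith : ∀ g : D, (∀ x : X, g • x = x) → g = 1) (β : X → X → ZMod 2)
    (hβ : ∀ x y z, β (x + y) z = β x z + β y z) (hβ' : ∀ x y z, β x (y + z) = β x y + β x z)
    (hnd : ∀ x, (∀ y, β x y = 0) → x = 0) (hinv : ∀ (g : D) (x y : X), β (g • x) (g • y) = β x y) (P : Sylow p D)
    (hP : ¬ (P : Subgroup D).Normal) {n : ℕ} (hn : Nat.card X = 2 ^ n) : 2 * p ≤ n := by
  classical
  haveI : Fact p.Prime := ⟨hp⟩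
  haveI : Group.IsSolvable D := Cfsg.Agent.S0205.result hD
  haveI := Fintype.ofFinite D
  haveI : Finite (Cfsg.IrrCharacter D) := Cfsg.Agent.Characters.Core.finite_irr
  haveI := Fintype.ofFinite (Cfsg.IrrCharacter D)
  obtain ⟨ρ, hρ, hreal⟩ := exists_real_rep hD hX hfaith β hβ hβ' hnd hinv hn
  have hp2 : p ≠ 2 := by
    rintro rfl
    apply hP
    have h1 : (P : Subgroup D) = ⊥ := by
      obtain ⟨a, ha⟩ := (IsPGroup.iff_card.1 P.isPGroup')
      have h2 : Nat.card (P : Subgroup D) ∣ Nat.card D := Subgroup.card_subgroup_dvd_card _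
      rw [ha] at h2
      rcases Nat.eq_zero_or_pos a with h3 | h3
      · rw [h3, pow_zero] at ha
        exact Subgroup.card_eq_one.1 ha
      · have h4 : 2 ∣ Nat.card D := (dvd_pow_self 2 h3.ne').trans h2
        exact absurd hD (by rw [Nat.not_odd_iff_even]; exact even_iff_two_dvd.2 h4)
    rw [h1]
    infer_instance
  have hp3 : 3 ≤ p := by
    have := hp.two_le
    omega
  obtain ⟨m, hm⟩ := Cfsg.Agent.Characters.Core.exists_nat_comb (G := D) (χ := ρ.character) ⟨n, ρ, rfl⟩
  have hex : ∀ ψ : Cfsg.IrrCharacter D, ∃ (k : ℕ) (σ : Representation ℂ D (Fin k → ℂ)), σ.IsIrreducible ∧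
    σ.character = (ψ : D → ℂ) := fun ψ => ψ.2
  choose k σ hσi hσ using hex
  obtain ⟨ψ, hψ0, x, hx, g, hxg⟩ := exists_constituent ρ hρ m hm k σ hσ P hP
  -- the degree of `ψ`
  have hk1 : ∀ φ : Cfsg.IrrCharacter D, (φ : D → ℂ) 1 = k φ := by
    intro φ
    rw [← hσ φ, Representation.char_one, Module.finrank_fin_fun]
  have hpk : p ≤ k ψ := by
    by_contra hlt
    push Not at hlt
    let u : D →* (Module.End ℂ (Fin (k ψ) → ℂ))ˣ := (σ ψ).toHomUnits
    have hu : ∀ d, ((u d : (Module.End ℂ (Fin (k ψ) → ℂ))ˣ) : Module.End ℂ (Fin (k ψ) → ℂ)) = σ ψ d := fun _ => rfl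
    let τ : Representation ℂ u.range (Fin (k ψ) → ℂ) := (Units.coeHom _).comp u.range.subtype
    have hτ : Function.Injective τ := by
      intro a b hab
      exact Subtype.ext (Units.ext hab)
    haveI : Group.IsSolvable u.range := Group.isSolvable_of_surjective u.rangeRestrict_surjective
    have hQn : ¬ ((P.mapSurjective u.rangeRestrict_surjective : Sylow p u.range) : Subgroup u.range).Normal := by
      intro hn'
      rw [Sylow.coe_mapSurjective] at hn'
      have h1 : u.rangeRestrict x ∈ (P : Subgroup D).map u.rangeRestrict := Subgroup.mem_map_of_mem _ hx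
      have h2 := hn'.conj_mem _ h1 (u.rangeRestrict g)
      obtain ⟨y, hy, hyx⟩ := Subgroup.mem_map.1 h2
      apply hxg y hy
      have h3 : u y = u g * u x * (u g)⁻¹ := congrArg Subtype.val hyx
      rw [← map_mul, ← map_inv, ← map_mul] at h3
      rw [← hu, ← hu, h3]
    obtain ⟨h1, ⟨j, h2⟩, -⟩ := Cfsg.Agent.H599.Ito.main τ hτ
      (Cfsg.Agent.Lib.PSolvable.IsPSolvable_of_solvable (G := u.range) p) hlt _ hQn
    haveI := hσi ψ
    have h3 : Module.finrank ℂ (Fin (k ψ) → ℂ) ∣ Nat.card D :=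
      Cfsg.Agent.Characters.DegreeBounds.finrank_dvd_card (σ ψ)
    rw [Module.finrank_fin_fun] at h3
    have h4 : Odd (k ψ) := hD.of_dvd_nat h3
    rcases Nat.eq_zero_or_pos j with hj | hj
    · rw [hj, pow_zero] at h2
      omega
    · have h5 : 2 ∣ k ψ := by rw [h2]; exact dvd_pow_self 2 hj.ne'
      rw [← Nat.not_even_iff_odd, even_iff_two_dvd] at h4
      exact h4 h5
  -- the conjugate character
  have hreal' : ∀ d, (starRingEnd ℂ) (ρ.character d) = ρ.character d := by
    intro d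
    rw [← Cfsg.Agent.Characters.Core.isCharacter_apply_inv ⟨n, ρ, rfl⟩ d, hreal]
  let ψ' : Cfsg.IrrCharacter D := ⟨fun d => (starRingEnd ℂ) ((ψ : D → ℂ) d), Cfsg.Agent.Characters.Core.isIrr_conj ψ.2⟩
  have hψ' : ψ' ≠ ψ := by
    intro h
    have h1 : ∀ d : D, ((ψ : D → ℂ) d).im = 0 := by
      intro d
      rw [← Complex.conj_eq_iff_im]
      exact congrFun (congrArg Subtype.val h) d
    have h2 := Cfsg.Agent.S0161.result hD ψ h1
    have h3 : (1 : ℂ) = k ψ := by rw [← hk1 ψ, h2]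
    have h4 : k ψ = 1 := by exact_mod_cast h3.symm
    omega
  have hmψ' : m ψ' = m ψ := by
    have h1 := Cfsg.Agent.Characters.Core.classInner_sum_nsmul_irr m ψ
    have h2 := Cfsg.Agent.Characters.Core.classInner_sum_nsmul_irr m ψ'
    rw [← hm] at h1 h2
    have h3 : Cfsg.classInner ρ.character (ψ' : D → ℂ) = (starRingEnd ℂ) (Cfsg.classInner ρ.character (ψ : D → ℂ)) := by
      rw [Cfsg.Agent.Characters.Core.classInner_def, Cfsg.Agent.Characters.Core.classInner_def, map_mul, map_sum]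
      congr 1
      · simp
      · refine Finset.sum_congr rfl fun d _ => ?_
        rw [map_mul, hreal']
    rw [h1, h2] at h3
    have h4 : ((m ψ' : ℕ) : ℂ) = (m ψ : ℕ) := by rw [h3]; simp
    exact_mod_cast h4
  have hkψ' : k ψ' = k ψ := by
    have h1 := hk1 ψ'
    have h2 : (ψ' : D → ℂ) 1 = (starRingEnd ℂ) ((ψ : D → ℂ) 1) := rfl
    rw [h2, hk1 ψ] at h1
    have h3 : ((k ψ : ℕ) : ℂ) = (k ψ' : ℕ) := by rw [← h1]; simp
    exact_mod_cast h3.symm
  have hsum : n = ∑ φ : Cfsg.IrrCharacter D, m φ * k φ := by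
    have h1 : ρ.character 1 = (n : ℂ) := by rw [Representation.char_one, Module.finrank_fin_fun]
    rw [hm] at h1
    simp only [Finset.sum_apply, Pi.smul_apply, hk1] at h1
    have h2 : ((∑ φ : Cfsg.IrrCharacter D, m φ * k φ : ℕ) : ℂ) = (n : ℂ) := by
      rw [← h1]
      push_cast
      refine Finset.sum_congr rfl fun φ _ => ?_
      rw [nsmul_eq_mul]
    exact_mod_cast h2.symm
  have hle : m ψ * k ψ + m ψ' * k ψ' ≤ n := by
    rw [hsum]
    have h1 : ∑ φ ∈ ({ψ, ψ'} : Finset (Cfsg.IrrCharacter D)), m φ * k φ ≤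
        ∑ φ : Cfsg.IrrCharacter D, m φ * k φ :=
      Finset.sum_le_sum_of_subset_of_nonneg (Finset.subset_univ _) fun _ _ _ => Nat.zero_le _
    rwa [Finset.sum_pair hψ'.symm] at h1
  rw [hmψ', hkψ'] at hle
  have h1 : 1 ≤ m ψ := Nat.one_le_iff_ne_zero.2 hψ0
  have h2 : 1 * k ψ ≤ m ψ * k ψ := Nat.mul_le_mul_right _ h1
  omega

end Cfsg.Agent.H96.Cls.LemD
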